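import Mathlib

/-!
# Automorphism groups of biproducts of simple-type objects in linear categories
-/

set_option autoImplicit false

universe w v u

open CategoryTheory CategoryTheory.Limits

namespace Groth.Agent.AutCount5

variable {C : Type u} [Category.{v} C] [Preadditive C]

/-- `Aut` of a biproduct of orthogonal objects. -/
noncomputable def endBiprodEquiv {A B : C} [HasBinaryBiproduct A B] (h₁ : ∀ f : A ⟶ B, f = 0)
    (h₂ : ∀ f : B ⟶ A, f = 0) : End (A ⊞ B) ≃* End A × End B where
  toFun φ := (biprod.inl ≫ φ ≫ biprod.fst, biprod.inr ≫ φ ≫ biprod.snd)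
  invFun p := biprod.map p.1 p.2
  left_inv φ := by
    refine biprod.hom_ext' _ _ ?_ ?_ <;> refine biprod.hom_ext _ _ ?_ ?_
    · simp
    · simp only [Category.assoc, biprod.map_snd, biprod.inl_snd_assoc, zero_comp]
      exact (h₁ _).symm
    · simp only [Category.assoc, biprod.map_fst, biprod.inr_fst_assoc, zero_comp]
      exact (h₂ _).symm
    · simp
  right_inv p := by simp
  map_mul' φ ψ := by
    refine Prod.ext ?_ ?_
    · show biprod.inl ≫ (ψ ≫ φ) ≫ biprod.fst =
        (biprod.inl ≫ ψ ≫ biprod.fst) ≫ biprod.inl ≫ φ ≫ biprod.fst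
      have h := h₁ (biprod.inl ≫ ψ ≫ biprod.snd)
      calc biprod.inl ≫ (ψ ≫ φ) ≫ biprod.fst
          = biprod.inl ≫ ψ ≫ (biprod.fst ≫ biprod.inl + biprod.snd ≫ biprod.inr) ≫ φ ≫ biprod.fst := by
            rw [biprod.total]; simp
        _ = _ := by
            simp only [Preadditive.add_comp, Preadditive.comp_add, Category.assoc]
            rw [reassoc_of% h]
            simp
    · show biprod.inr ≫ (ψ ≫ φ) ≫ biprod.snd =
        (biprod.inr ≫ ψ ≫ biprod.snd) ≫ biprod.inr ≫ φ ≫ biprod.snd
      have h := h₂ (biprod.inr ≫ ψ ≫ biprod.fst)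
      calc biprod.inr ≫ (ψ ≫ φ) ≫ biprod.snd
          = biprod.inr ≫ ψ ≫ (biprod.fst ≫ biprod.inl + biprod.snd ≫ biprod.inr) ≫ φ ≫ biprod.snd := by
            rw [biprod.total]; simp
        _ = _ := by
            simp only [Preadditive.add_comp, Preadditive.comp_add, Category.assoc]
            rw [reassoc_of% h]
            simp

theorem card_aut_biprod {A B : C} [HasBinaryBiproduct A B] (h₁ : ∀ f : A ⟶ B, f = 0)
    (h₂ : ∀ f : B ⟶ A, f = 0) : Nat.card (Aut (A ⊞ B)) = Nat.card (Aut A) * Nat.card (Aut B) := by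
  rw [← Nat.card_prod]
  refine Nat.card_congr ((Aut.unitsEndEquivAut _).symm.trans
    ((Units.mapEquiv (endBiprodEquiv h₁ h₂)).trans ?_)).toEquiv
  exact (MulEquiv.prodUnits.trans (MulEquiv.prodCongr (Aut.unitsEndEquivAut A) (Aut.unitsEndEquivAut B)))

theorem card_aut_congr {X Y : C} (e : X ≅ Y) : Nat.card (Aut X) = Nat.card (Aut Y) :=
  Nat.card_congr
    { toFun := fun a => (e.symm ≪≫ a ≪≫ e : Y ≅ Y)
      invFun := fun a => (e ≪≫ a ≪≫ e.symm : X ≅ X)
      left_inv := fun a => Iso.ext (by simp)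
      right_inv := fun a => Iso.ext (by simp) }

variable (k : Type w) [Field k] [Linear k C]

/-- `End (L^n)` as matrices when `End L = k`. -/
noncomputable def endCopiesEquiv {n : ℕ} {L : C} [HasFiniteBiproducts C]
    (hbij : Function.Bijective fun c : k => c • (𝟙 L)) :
    End (⨁ fun _ : Fin n => L) ≃* Matrix (Fin n) (Fin n) k where
  toFun φ := Matrix.of fun i j => (Equiv.ofBijective _ hbij).symm (biproduct.components φ j i)
  invFun M := biproduct.matrix fun j i => M i j • 𝟙 L
  left_inv φ := by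
    refine Eq.trans ?_ (biproduct.components_matrix φ)
    show biproduct.matrix _ = _
    congr 1
    funext j i
    exact (Equiv.ofBijective _ hbij).apply_symm_apply _
  right_inv M := by
    ext i j
    simp only [Matrix.of_apply, biproduct.matrix_components]
    exact (Equiv.ofBijective _ hbij).symm_apply_apply _
  map_mul' φ ψ := by
    ext i j
    rw [Matrix.mul_apply]
    refine hbij.1 ?_
    have hc : ∀ (χ : (⨁ fun _ : Fin n => L) ⟶ ⨁ fun _ : Fin n => L) (a b : Fin n),
        ((Equiv.ofBijective _ hbij).symm (biproduct.components χ a b)) • 𝟙 L = biproduct.components χ a b :=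
      fun χ a b => (Equiv.ofBijective _ hbij).apply_symm_apply _
    simp only [Matrix.of_apply, Finset.sum_smul]
    refine (hc _ _ _).trans ?_
    show biproduct.ι _ j ≫ (ψ ≫ φ) ≫ biproduct.π _ i = _
    calc biproduct.ι (fun _ : Fin n => L) j ≫ (ψ ≫ φ) ≫ biproduct.π _ i
        = biproduct.ι _ j ≫ ψ ≫ (∑ l, biproduct.π (fun _ : Fin n => L) l ≫ biproduct.ι (fun _ : Fin n => L) l) ≫ φ ≫
            biproduct.π _ i := by rw [biproduct.total]; simp
      _ = ∑ l, biproduct.components ψ j l ≫ biproduct.components φ l i := by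
          simp only [biproduct.components, Preadditive.sum_comp, Preadditive.comp_sum, Category.assoc]
      _ = _ := Finset.sum_congr rfl fun l _ => by
          conv_lhs => rw [← hc ψ j l, ← hc φ l i]
          rw [Linear.smul_comp, Linear.comp_smul, Category.id_comp, smul_smul, mul_comm]

theorem card_aut_copies [Finite k] {n : ℕ} {L : C} [HasFiniteBiproducts C]
    (hbij : Function.Bijective fun c : k => c • (𝟙 L)) :
    Nat.card (Aut (⨁ fun _ : Fin n => L)) = ∏ i : Fin n, (Nat.card k ^ n - Nat.card k ^ (i : ℕ)) := by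
  haveI := Fintype.ofFinite k
  rw [Nat.card_congr ((Aut.unitsEndEquivAut _).symm.trans (Units.mapEquiv (endCopiesEquiv k hbij))).toEquiv,
    Nat.card_eq_fintype_card (α := k)]
  exact Matrix.card_GL_field n

theorem card_aut_one [Finite k] {L : C} (hbij : Function.Bijective fun c : k => c • (𝟙 L)) :
    Nat.card (Aut L) = Nat.card k - 1 := by
  haveI := Fintype.ofFinite k
  classical
  let e : k ≃* End L :=
    { Equiv.ofBijective _ hbij with
      map_mul' := fun a b => by
        show (a * b) • 𝟙 L = (b • 𝟙 L) ≫ (a • 𝟙 L)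
        rw [Linear.smul_comp, Linear.comp_smul, Category.id_comp, smul_smul, mul_comm] }
  rw [Nat.card_congr ((Aut.unitsEndEquivAut L).symm.trans (Units.mapEquiv e.symm)).toEquiv,
    Nat.card_eq_fintype_card, Nat.card_eq_fintype_card, Fintype.card_units]

/-- Two copies. -/
noncomputable def twoIso {L : C} [HasFiniteBiproducts C] [HasBinaryBiproducts C] :
    L ⊞ L ≅ ⨁ fun _ : Fin 2 => L where
  hom := biproduct.lift ![biprod.fst, biprod.snd]
  inv := biprod.lift (biproduct.π _ 0) (biproduct.π _ 1)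
  hom_inv_id := by refine biprod.hom_ext _ _ ?_ ?_ <;> simp
  inv_hom_id := by
    refine biproduct.hom_ext _ _ fun i => ?_
    fin_cases i <;> simp

/-- Three copies. -/
noncomputable def threeIso {L : C} [HasFiniteBiproducts C] [HasBinaryBiproducts C] :
    L ⊞ (L ⊞ L) ≅ ⨁ fun _ : Fin 3 => L where
  hom := biproduct.lift ![biprod.fst, biprod.snd ≫ biprod.fst, biprod.snd ≫ biprod.snd]
  inv := biprod.lift (biproduct.π _ 0) (biprod.lift (biproduct.π _ 1) (biproduct.π _ 2))
  hom_inv_id := by
    refine biprod.hom_ext _ _ ?_ (biprod.hom_ext _ _ ?_ ?_) <;> simp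
  inv_hom_id := by
    refine biproduct.hom_ext _ _ fun i => ?_
    fin_cases i <;> simp

/-- Swapping the last two summands. -/
noncomputable def swapIso [HasBinaryBiproducts C] (A B D : C) : A ⊞ (B ⊞ D) ≅ (A ⊞ D) ⊞ B where
  hom := biprod.lift (biprod.lift biprod.fst (biprod.snd ≫ biprod.snd)) (biprod.snd ≫ biprod.fst)
  inv := biprod.lift (biprod.fst ≫ biprod.fst) (biprod.lift biprod.snd (biprod.fst ≫ biprod.snd))
  hom_inv_id := by refine biprod.hom_ext _ _ ?_ (biprod.hom_ext _ _ ?_ ?_) <;> simp
  inv_hom_id := by refine biprod.hom_ext _ _ (biprod.hom_ext _ _ ?_ ?_) ?_ <;> simp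

end Groth.Agent.AutCount5
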