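import Groth.Agent.AutCount5.Basic

/-!
# Automorphisms of biproducts with nilpotent off-diagonal composites, self-extensions
-/

set_option autoImplicit false

universe w v u

open CategoryTheory CategoryTheory.Limits

namespace Groth.Agent.AutCount5

section Preadd

variable {C : Type u} [Category.{v} C] [Preadditive C]

/-- Diagonal entries of an automorphism of `A ⊞ B`, when `A → B → A` is zero and `B → A → B` is small. -/
theorem isIso_diag {A B : C} [HasBinaryBiproduct A B] (h : ∀ (x : A ⟶ B) (y : B ⟶ A), x ≫ y = 0)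
    (hu : ∀ (D : B ⟶ B) (y : B ⟶ A) (x : A ⟶ B), IsIso D → IsIso (D + y ≫ x)) (φ : A ⊞ B ≅ A ⊞ B) :
    IsIso (biprod.inl ≫ φ.hom ≫ biprod.fst) ∧ IsIso (biprod.inr ≫ φ.hom ≫ biprod.snd) := by
  have e1 : ∀ ψ : A ⊞ B ≅ A ⊞ B,
      (biprod.inl ≫ ψ.hom ≫ biprod.fst) ≫ (biprod.inl ≫ ψ.inv ≫ biprod.fst) = 𝟙 A := by
    intro ψ
    have h1 : biprod.inl ≫ ψ.hom ≫ (biprod.fst ≫ biprod.inl + biprod.snd ≫ biprod.inr) ≫ ψ.inv ≫ biprod.fst = 𝟙 A := by
      rw [biprod.total]; simp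
    simp only [Preadditive.add_comp, Preadditive.comp_add, Category.assoc] at h1 ⊢
    have h2 := h (biprod.inl ≫ ψ.hom ≫ biprod.snd) (biprod.inr ≫ ψ.inv ≫ biprod.fst)
    simp only [Category.assoc] at h2
    rwa [h2, add_zero] at h1
  have e2 : ∀ ψ : A ⊞ B ≅ A ⊞ B,
      IsIso ((biprod.inr ≫ ψ.hom ≫ biprod.snd) ≫ (biprod.inr ≫ ψ.inv ≫ biprod.snd)) := by
    intro ψ
    have h1 : biprod.inr ≫ ψ.hom ≫ (biprod.fst ≫ biprod.inl + biprod.snd ≫ biprod.inr) ≫ ψ.inv ≫ biprod.snd = 𝟙 B := by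
      rw [biprod.total]; simp
    have h2 := hu (𝟙 B) (-(biprod.inr ≫ ψ.hom ≫ biprod.fst)) (biprod.inl ≫ ψ.inv ≫ biprod.snd) inferInstance
    convert h2 using 1
    rw [← h1]
    simp only [Preadditive.add_comp, Preadditive.comp_add, Preadditive.neg_comp, Category.assoc]
    abel
  refine ⟨⟨biprod.inl ≫ φ.inv ≫ biprod.fst, e1 φ, e1 φ.symm⟩, ?_⟩
  let a := biprod.inr ≫ φ.hom ≫ biprod.snd
  let b := biprod.inr ≫ φ.inv ≫ biprod.snd
  haveI : IsIso (a ≫ b) := e2 φ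
  haveI : IsIso (b ≫ a) := e2 φ.symm
  haveI : IsSplitMono a := IsSplitMono.mk' ⟨b ≫ inv (a ≫ b), by rw [← Category.assoc, IsIso.hom_inv_id]⟩
  haveI : IsSplitEpi a := IsSplitEpi.mk' ⟨inv (b ≫ a) ≫ b, by rw [Category.assoc, IsIso.inv_hom_id]⟩
  exact isIso_of_mono_of_isSplitEpi a

/-- Converse to `isIso_diag`. -/
theorem isIso_ofComponents {A B : C} [HasBinaryBiproducts C]
    (hu : ∀ (D : B ⟶ B) (y : B ⟶ A) (x : A ⟶ B), IsIso D → IsIso (D + y ≫ x))
    (a : A ⟶ A) (x : A ⟶ B) (y : B ⟶ A) (d : B ⟶ B) [IsIso a] [IsIso d] :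
    IsIso (Biprod.ofComponents a x y d) := by
  let L := Biprod.unipotentLower (X₁ := A) (X₂ := B) (-y ≫ inv a)
  let R := Biprod.unipotentUpper (X₁ := A) (X₂ := B) (-inv a ≫ x)
  have w : L.hom ≫ Biprod.ofComponents a x y d ≫ R.hom = biprod.map a (d - y ≫ inv a ≫ x) := by
    ext <;> simp [L, R]; abel
  haveI : IsIso (d - y ≫ inv a ≫ x) := by
    have := hu d (-y) (inv a ≫ x) inferInstance
    rwa [Preadditive.neg_comp, ← sub_eq_add_neg] at this
  have h : Biprod.ofComponents a x y d = L.inv ≫ biprod.map a (d - y ≫ inv a ≫ x) ≫ R.inv := by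
    rw [← w]; simp
  rw [h]
  haveI : IsIso (biprod.map a (d - y ≫ inv a ≫ x)) :=
    inferInstanceAs (IsIso (biprod.mapIso (asIso a) (asIso (d - y ≫ inv a ≫ x))).hom)
  infer_instance

/-- `|Aut (A ⊞ B)|` when `A → B → A` is zero and `B → A → B` is small. -/
theorem card_aut_biprod_mixed {A B : C} [HasBinaryBiproducts C] (h : ∀ (x : A ⟶ B) (y : B ⟶ A), x ≫ y = 0)
    (hu : ∀ (D : B ⟶ B) (y : B ⟶ A) (x : A ⟶ B), IsIso D → IsIso (D + y ≫ x)) :
    Nat.card (Aut (A ⊞ B)) =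
      Nat.card (Aut A) * Nat.card (Aut B) * (Nat.card (A ⟶ B) * Nat.card (B ⟶ A)) := by
  rw [← Nat.card_prod, ← Nat.card_prod, ← Nat.card_prod]
  refine Nat.card_congr
    { toFun := fun φ =>
        letI := (isIso_diag h hu φ).1
        letI := (isIso_diag h hu φ).2
        ((asIso (biprod.inl ≫ φ.hom ≫ biprod.fst), asIso (biprod.inr ≫ φ.hom ≫ biprod.snd)),
          (biprod.inl ≫ φ.hom ≫ biprod.snd, biprod.inr ≫ φ.hom ≫ biprod.fst))
      invFun := fun q =>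
        letI := isIso_ofComponents hu q.1.1.hom q.2.1 q.2.2 q.1.2.hom
        asIso (Biprod.ofComponents q.1.1.hom q.2.1 q.2.2 q.1.2.hom)
      left_inv := fun φ => Iso.ext (by simp [Biprod.ofComponents_eq])
      right_inv := fun q => ?_ }
  obtain ⟨⟨a, d⟩, x, y⟩ := q
  refine Prod.ext (Prod.ext (Iso.ext ?_) (Iso.ext ?_)) (Prod.ext ?_ ?_) <;> simp

end Preadd

variable {C : Type u} [Category.{v} C] [Abelian C] (k : Type w) [Field k] [Linear k C]
  {Z F : C} {i : Z ⟶ F} {p : F ⟶ Z} {hip : i ≫ p = 0}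
  (hS : (ShortComplex.mk i p hip).ShortExact) (hZ : Function.Bijective fun c : k => c • (𝟙 Z))
  (hns : ¬ IsSplitEpi p)
include hS hZ hns

theorem comp_p_eq_zero (f : Z ⟶ F) : f ≫ p = 0 := by
  obtain ⟨c, hc⟩ := hZ.2 (f ≫ p)
  rcases eq_or_ne c 0 with rfl | h0
  · simpa using hc.symm
  · exact absurd (IsSplitEpi.mk' ⟨c⁻¹ • f, by
      rw [Linear.smul_comp, ← hc, smul_smul, inv_mul_cancel₀ h0, one_smul]⟩) hns

theorem i_comp_eq_zero (f : F ⟶ Z) : i ≫ f = 0 := by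
  obtain ⟨c, hc⟩ := hZ.2 (i ≫ f)
  rcases eq_or_ne c 0 with rfl | h0
  · simpa using hc.symm
  · haveI := hS.epi_g
    have hret : i ≫ (c⁻¹ • f) = 𝟙 Z := by
      rw [Linear.comp_smul, ← hc, smul_smul, inv_mul_cancel₀ h0, one_smul]
    let s := ShortComplex.Splitting.ofExactOfRetraction (ShortComplex.mk i p hip) hS.exact (c⁻¹ • f) hret hS.epi_g
    exact absurd (IsSplitEpi.mk' ⟨s.s, s.s_g⟩) hns

theorem bijective_to : Function.Bijective fun c : k => c • i := by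
  haveI := hS.mono_f
  refine ⟨fun a b h => hZ.1 ((cancel_mono i).1 ?_), fun f => ?_⟩
  · simpa using h
  · obtain ⟨t, ht⟩ : ∃ t, t ≫ i = f :=
      ⟨hS.exact.lift f (comp_p_eq_zero k hS hZ hns f), hS.exact.lift_f _ _⟩
    obtain ⟨c, rfl⟩ := hZ.2 t
    exact ⟨c, by rw [← ht]; simp⟩

theorem bijective_from : Function.Bijective fun c : k => c • p := by
  haveI := hS.epi_g
  refine ⟨fun a b h => hZ.1 ((cancel_epi p).1 ?_), fun f => ?_⟩
  · simpa using h
  · obtain ⟨t, ht⟩ : ∃ t, p ≫ t = f :=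
      ⟨hS.exact.desc f (i_comp_eq_zero k hS hZ hns f), hS.exact.g_desc _ _⟩
    obtain ⟨c, rfl⟩ := hZ.2 t
    exact ⟨c, by rw [← ht]; simp⟩

theorem bijective_endo : Function.Bijective fun q : k × k => q.1 • 𝟙 F + q.2 • (p ≫ i) := by
  haveI := hS.epi_g
  haveI := hS.mono_f
  have hb := bijective_from k hS hZ hns
  refine ⟨fun a b h => ?_, fun f => ?_⟩
  · have h1 : a.1 = b.1 := hb.1 (by
      have := congrArg (fun t => t ≫ p) h
      simpa [hip, Preadditive.add_comp] using this)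
    refine Prod.ext h1 (hZ.1 ((cancel_mono i).1 ((cancel_epi p).1 ?_)))
    dsimp only at h
    rw [h1] at h
    simpa using add_left_cancel h
  · obtain ⟨c, hc⟩ := hb.2 (f ≫ p)
    obtain ⟨t, ht⟩ : ∃ t, t ≫ i = f - c • 𝟙 F :=
      ⟨hS.exact.lift (f - c • 𝟙 F) (by simp [← hc, Preadditive.sub_comp]), hS.exact.lift_f _ _⟩
    obtain ⟨d, rfl⟩ := hb.2 t
    refine ⟨(c, d), ?_⟩
    dsimp only
    simp only [Linear.smul_comp] at ht
    rw [ht]; abel

theorem isIso_endo_iff (c d : k) : IsIso (c • 𝟙 F + d • (p ≫ i)) ↔ c ≠ 0 := by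
  haveI := hS.mono_f
  constructor
  · intro h hc
    subst hc
    rw [zero_smul, zero_add] at h
    have h2 : i ≫ (d • (p ≫ i)) = 0 := by rw [Linear.comp_smul, reassoc_of% hip, zero_comp, smul_zero]
    have hi : i = 0 := (cancel_mono (d • (p ≫ i))).1 (h2.trans zero_comp.symm)
    have h1 : (1 : k) • 𝟙 Z = (0 : k) • 𝟙 Z := (cancel_mono i).1 (by rw [hi]; simp)
    exact one_ne_zero (hZ.1 h1)
  · intro hc
    refine ⟨c⁻¹ • 𝟙 F + (-(c⁻¹ * d * c⁻¹)) • (p ≫ i), ?_, ?_⟩ <;>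
    · simp only [Preadditive.add_comp, Preadditive.comp_add, Linear.smul_comp, Linear.comp_smul, Category.id_comp,
        Category.comp_id, Category.assoc, reassoc_of% hip, zero_comp, comp_zero, smul_zero, add_zero, smul_smul,
        smul_add, add_assoc, ← add_smul, mul_inv_cancel₀ hc, inv_mul_cancel₀ hc, one_smul]
      convert add_zero (𝟙 F) using 2
      convert zero_smul k (p ≫ i) using 2
      field_simp
      ring

theorem isIso_add (D : F ⟶ F) (y : F ⟶ Z) (x : Z ⟶ F) (hD : IsIso D) : IsIso (D + y ≫ x) := by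
  obtain ⟨a, rfl⟩ := (bijective_to k hS hZ hns).2 x
  obtain ⟨b, rfl⟩ := (bijective_from k hS hZ hns).2 y
  obtain ⟨⟨c, d⟩, rfl⟩ := (bijective_endo k hS hZ hns).2 D
  have hc := (isIso_endo_iff k hS hZ hns c d).1 hD
  have he : (c • 𝟙 F + d • (p ≫ i)) + (b • p) ≫ (a • i) = c • 𝟙 F + (d + a * b) • (p ≫ i) := by
    rw [Linear.smul_comp, Linear.comp_smul, smul_smul, add_smul, add_assoc, mul_comm]
  dsimp only
  rw [he]
  exact (isIso_endo_iff k hS hZ hns c _).2 hc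

theorem card_aut_selfExt [Finite k] : Nat.card (Aut F) = (Nat.card k - 1) * Nat.card k := by
  let e := Equiv.ofBijective _ (bijective_endo k hS hZ hns)
  rw [← Nat.card_units k, ← Nat.card_prod]
  refine Nat.card_congr
    { toFun := fun φ => (Units.mk0 (e.symm φ.hom).1 ((isIso_endo_iff k hS hZ hns _ (e.symm φ.hom).2).1 (by
        have h := e.apply_symm_apply φ.hom
        change IsIso (e (e.symm φ.hom))
        rw [h]; infer_instance)), (e.symm φ.hom).2)
      invFun := fun q =>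
        letI : IsIso (e (q.1.1, q.2)) := (isIso_endo_iff k hS hZ hns q.1.1 q.2).2 q.1.ne_zero
        asIso (e (q.1.1, q.2))
      left_inv := fun φ => Iso.ext (e.apply_symm_apply φ.hom)
      right_inv := fun q => by
        refine Prod.ext (Units.ext ?_) ?_
        · exact (congrArg Prod.fst (e.symm_apply_apply (q.1.1, q.2)) :)
        · exact (congrArg Prod.snd (e.symm_apply_apply (q.1.1, q.2)) :) }

end Groth.Agent.AutCount5
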